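/-
S1617, Rank: `contra`: `p ≥ 5`, `D` with all pairs commuting or of order `p`, the rank hypothesis, and `delta_one`: `False`.
-/
import Cfsg.Agent.Lib.OddTrans.RankReduce
import Cfsg.Agent.Lib.OddTransCore.Core
import Cfsg.Agent.Lib.Rank3Case.CaseOne
import Cfsg.Agent.Lib.Rank3Case.CaseTwo

set_option autoImplicit false
set_option linter.unusedSectionVars false
set_option linter.unusedVariables false

namespace Cfsg.Agent.Lib.Rank3Case

open Cfsg.Agent.Lib.OddTrans.RankReduce in
/-- `contra`. -/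
theorem contra {G : Type*} [Group G] [Finite G] (hsol : ∀ N : Subgroup G, N.Normal → Group.IsSolvable ↥N → N = ⊥) {D : Set G} (hinv : ∀ d ∈ D, orderOf d = 2) (hconj : ∃ d ∈ D, D = conjugatesOf d) (hgen : Subgroup.closure D = ⊤) (hrank : ∀ x ∈ D, ∃ y ∈ D, ∃ z ∈ D, {w : G | ∃ g : G, Commute g x ∧ g * y * g⁻¹ = w} ≠ {w : G | ∃ g : G, Commute g x ∧ g * x * g⁻¹ = w} ∧ {w : G | ∃ g : G, Commute g x ∧ g * z * g⁻¹ = w} ≠ {w : G | ∃ g : G, Commute g x ∧ g * x * g⁻¹ = w} ∧ {w : G | ∃ g : G, Commute g x ∧ g * y * g⁻¹ = w} ≠ {w : G | ∃ g : G, Commute g x ∧ g * z * g⁻¹ = w} ∧ D = {w : G | ∃ g : G, Commute g x ∧ g * x * g⁻¹ = w} ∪ {w : G | ∃ g : G, Commute g x ∧ g * y * g⁻¹ = w} ∪ {w : G | ∃ g : G, Commute g x ∧ g * z * g⁻¹ = w})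
    {p : ℕ} (hp : p.Prime) (hp5 : 5 ≤ p) (hall : ∀ a ∈ D, ∀ b ∈ D, Commute a b ∨ orderOf (a * b) = p)
    (delta : ∀ a ∈ D, ∀ b ∈ D, Commute a b → a ≠ b → ∀ y ∈ D, ¬ Commute y a → ¬ Commute y b →
      Commute ((a * b) * y * (a * b)⁻¹) y) : False := by
  classical
  have hp2 : p ≠ 2 := by omega
  have hii : ∀ d ∈ D, d * d = 1 := fun d hd => inv_self_of (hinv d hd)
  have hne1 : ∀ d ∈ D, d ≠ 1 := by
    intro d hd h
    have := hinv d hd
    rw [h, orderOf_one] at this
    omega
  have hcl : ∀ a ∈ D, ∀ g : G, g * a * g⁻¹ ∈ D := by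
    obtain ⟨d, hd, hD⟩ := hconj
    intro a ha g
    have ha' : IsConj d a := (hD ▸ ha : a ∈ conjugatesOf d)
    rw [hD]
    show IsConj d _
    exact ha'.trans (isConj_iff.mpr ⟨g, rfl⟩)
  have hcls : ∀ a ∈ D, ∀ b ∈ D, ∃ g : G, g * a * g⁻¹ = b := by
    obtain ⟨d, hd, hD⟩ := hconj
    intro a ha b hb
    have ha' : IsConj d a := (hD ▸ ha : a ∈ conjugatesOf d)
    have hb' : IsConj d b := (hD ▸ hb : b ∈ conjugatesOf d)
    exact isConj_iff.mp (ha'.symm.trans hb')
  have hPS : Cfsg.Agent.Lib.OddTransCore.PS p D := ⟨fun d hd => ⟨hne1 d hd, hii d hd⟩, hcl, hall⟩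
  -- two distinct points
  obtain ⟨x₀, hx₀, -⟩ := hconj
  have hy₀ : ∃ y ∈ D, y ≠ x₀ := by
    obtain ⟨y, hy, z, hz, h1, h2, h3, h4⟩ := hrank x₀ hx₀
    refine ⟨y, hy, ?_⟩
    rintro rfl
    exact h1 rfl
  obtain ⟨y₀, hy₀, hyx⟩ := hy₀
  -- a commuting distinct pair
  have hex : ∃ a ∈ D, ∃ b ∈ D, Commute a b ∧ a ≠ b := by
    by_contra hcon
    push Not at hcon
    refine no_isolated hsol hinv hcl hcls ?_ hx₀ hy₀ (Ne.symm hyx)
    intro a ha b hb hab h2
    have h1 : (a * b) ^ 2 = 1 := by rw [← h2, pow_orderOf_eq_one]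
    have h3 : a * b * (a * b) = 1 := by rw [← sq]; exact h1
    have hai := inv_eq_self_of (hinv a ha)
    have hbi := inv_eq_self_of (hinv b hb)
    have h4 : a * b = (a * b)⁻¹ := mul_eq_one_iff_eq_inv.mp h3
    rw [mul_inv_rev, hai, hbi] at h4
    exact hab (hcon a ha b hb h4)
  by_cases htr : ∀ a ∈ D, ∀ b ∈ D, ∀ c ∈ D, Commute a b → Commute b c → Commute a c
  · obtain ⟨a, ha, b, hb, hab, hne⟩ := hex
    exact case_one hsol hii hcl htr delta ha hb hab hne
  · push Not at htr
    obtain ⟨a, ha, b, hb, c, hc, hab, hbc, hac⟩ := htr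
    have hba : b ≠ a := by
      rintro rfl
      exact hac hbc
    -- `C(u)` is transitive on the commuting members
    have htrans : ∀ u ∈ D, ∀ a ∈ D, ∀ b ∈ D, a ≠ u → Commute a u → b ≠ u → Commute b u →
        ∃ g : G, Commute g u ∧ g * a * g⁻¹ = b := by
      intro u hu a' ha' b' hb' hau hcu hbu hcu'
      obtain ⟨y, hy, z, hz, h1, h2, h3, h4⟩ := hrank u hu
      have hself : ∀ w, (∃ g : G, Commute g u ∧ g * u * g⁻¹ = w) → w = u := by
        rintro w ⟨g, hg, rfl⟩
        rw [hg.eq]; group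
      have mem : ∀ w ∈ D, w ≠ u → (∃ g : G, Commute g u ∧ g * y * g⁻¹ = w) ∨
          (∃ g : G, Commute g u ∧ g * z * g⁻¹ = w) := by
        intro w hw hwu
        rw [h4] at hw
        rcases hw with (hw | hw) | hw
        · exact absurd (hself w hw) hwu
        · exact Or.inl hw
        · exact Or.inr hw
      have hcj : ∀ g w : G, Commute g u → Commute (g * w * g⁻¹) u → Commute w u := by
        intro g w hg h
        have e : w = g⁻¹ * (g * w * g⁻¹) * g⁻¹⁻¹ := by group
        have hgi : Commute g⁻¹ u := hg.inv_left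
        rw [e]
        exact (hgi.mul_left h).mul_left (by simpa using hg)
      -- both orbits commuting: `u` is central: impossible
      have hcentral : Commute y u → Commute z u → False := by
        intro hyu hzu
        have hall' : ∀ w ∈ D, Commute w u := by
          intro w hw
          by_cases hwu : w = u
          · rw [hwu]
          · rcases mem w hw hwu with ⟨g, hg, rfl⟩ | ⟨g, hg, rfl⟩
            · exact (hg.mul_left hyu).mul_left hg.inv_left
            · exact (hg.mul_left hzu).mul_left hg.inv_left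
        have hcen : ∀ g : G, Commute g u := by
          intro g
          have hg : g ∈ Subgroup.closure D := hgen ▸ Subgroup.mem_top g
          induction hg using Subgroup.closure_induction with
          | mem w hw => exact hall' w hw
          | one => exact Commute.one_left u
          | mul v w _ _ hv hw => exact hv.mul_left hw
          | inv w _ hw => exact hw.inv_left
        obtain ⟨g, hg⟩ := hcls u hu y hy
        have hyu' : y = u := by
          rw [← hg, (hcen g).eq]; group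
        apply h1
        rw [hyu']
      rcases mem a' ha' hau with ⟨g, hg, rfl⟩ | ⟨g, hg, rfl⟩ <;>
        rcases mem b' hb' hbu with ⟨g', hg', rfl⟩ | ⟨g', hg', rfl⟩
      · refine ⟨g' * g⁻¹, hg'.mul_left hg.inv_left, by group⟩
      · exact (hcentral (hcj g y hg hcu) (hcj g' z hg' hcu')).elim
      · exact (hcentral (hcj g' y hg' hcu') (hcj g z hg hcu)).elim
      · refine ⟨g' * g⁻¹, hg'.mul_left hg.inv_left, by group⟩
    obtain ⟨y, hy, hyb, hya⟩ := exists_y_core hii hcl hgen hcls htrans hb ha hab.symm hba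
    refine case_two_core hp hp5 hii hcl hall ?_ delta hb ha hy hc hab.symm hba hyb hya hbc.symm
      (fun h => hac h.symm)
    intro a' ha' b' hb' hc' hne' d hd hdz
    exact ⟨hPS.lemmaA_left hp hp2 ha' hb' hd hc' hne' hdz, hPS.lemmaA_right hp hp2 ha' hb' hd hc' hne' hdz⟩

end Cfsg.Agent.Lib.Rank3Case
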